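import Cfsg.Agent.H983.ElCross.X2b
import Cfsg.Agent.H927.SgXFam3
import Cfsg.Agent.H264.FKS.Names
import Cfsg.Agent.H278.ElCrossIface

/-!
# TEAM ELUSIVE, EL-S-CROSS: `Few` for `L_m(u)`, `m ≥ 3`, and `U_m(u)` (helper983)
-/

set_option autoImplicit false

namespace Cfsg.Agent.H983.X2b

open Cfsg.Agent.OrdDiv Cfsg.Agent.H436 Cfsg.Agent.H927.SgX Cfsg.Agent.H264.FKS

variable {u m c f p : ℕ}

/-- `f < p ^ f` -/
theorem exp_lt_fld (hu : u = p ^ f) (h2 : 2 ≤ u) : f < u := by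
  have hp : 1 < p := by
    rcases (show p = 0 ∨ p = 1 ∨ 1 < p by omega) with rfl | rfl | h
    · rcases Nat.eq_zero_or_pos f with rfl | hf
      · rw [pow_zero] at hu; omega
      · rw [zero_pow (by omega)] at hu; omega
    · rw [one_pow] at hu; omega
    · exact h
  rw [hu]
  exact Nat.lt_pow_self hp

theorem not_dvd_six {t : ℕ} (ht : t.Prime) (h : 4 ≤ t) : ¬ t ∣ 6 := by
  intro h1
  rw [show 6 = 2 * 3 by norm_num, ht.dvd_mul] at h1
  rcases h1 with h1 | h1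
  · have := Nat.le_of_dvd (by norm_num) h1; omega
  · have := Nat.le_of_dvd (by norm_num) h1; omega

theorem few_psl_aux (hm : 3 ≤ m) (hu2 : 2 ≤ u) (hf : u = p ^ f) (he : den (.psl m u) * c = num (.psl m u))
    (hl : 37 ≤ u ^ (m - 1) - 1) :
    (0 < u ^ m - 1 ∧ u ^ m - 1 < (u ^ (m - 1) - 1 - 11) ^ 2) ∧
    (0 < u ^ (m - 1) - 1 ∧ u ^ (m - 1) - 1 < (u ^ (m - 1) - 1 - 11) ^ 2) ∧
    ∀ t : ℕ, t.Prime → u ^ (m - 1) - 1 - 11 ≤ t → t ∣ 6 * f * c → t ∣ u ^ m - 1 ∨ t ∣ u ^ (m - 1) - 1 := by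
  obtain ⟨k, rfl⟩ : ∃ k, m = k + 3 := ⟨m - 3, by omega⟩
  rw [show k + 3 - 1 = k + 2 by omega] at hl ⊢
  obtain ⟨X, hX⟩ : ∃ X, X = u ^ (k + 2) := ⟨_, rfl⟩
  have h3 : u ^ (k + 3) = X * u := by rw [hX]; exact pow_succ _ _
  rw [← hX] at hl
  rw [h3, ← hX]
  obtain ⟨Y, hY⟩ : ∃ Y, Y = u ^ (k + 1) := ⟨_, rfl⟩
  have hXu : X = Y * u := by rw [hX, hY, pow_succ]
  have hY1 : u ≤ Y := by rw [hY]; exact Nat.le_self_pow (by omega) u
  have hYX : 2 * Y ≤ X := by rw [hXu]; nlinarith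
  have hu2X : u * u ≤ X := by rw [hXu]; exact Nat.mul_le_mul_right _ hY1
  obtain ⟨Z, hZ⟩ : ∃ Z, X = Z + 12 := ⟨X - 12, by omega⟩
  have hXu2 : X ≤ X * u := Nat.le_mul_of_pos_right _ (by omega)
  have hlt : X * u - 1 < (X - 1 - 11) ^ 2 := by
    have h4 : 2 * u ≤ Z := by
      by_contra h5
      have h6 : 14 * u ≤ u * u := Nat.mul_le_mul_right _ (by omega)
      omega
    have h5 : X - 1 - 11 = Z := by omega
    have h6 : X * u ≤ Z ^ 2 := by
      rw [hZ]
      have h7 : (Z + 12) * (2 * u) ≤ (Z + 12) * Z := Nat.mul_le_mul_left _ h4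
      have h8 : 12 * Z ≤ Z * Z := Nat.mul_le_mul_right _ (by omega)
      nlinarith
    rw [h5]
    omega
  refine ⟨⟨by omega, hlt⟩, ⟨by omega, by omega⟩, fun t ht htX hd => ?_⟩
  have hsmall : ¬ t ≤ Y := by omega
  have hfu := exp_lt_fld hf hu2
  have hdc : t ∣ c := by
    rw [mul_assoc, ht.dvd_mul, ht.dvd_mul] at hd
    rcases hd with h4 | h4 | h4
    · exact absurd h4 (not_dvd_six ht (by omega))
    · exfalso
      rcases Nat.eq_zero_or_pos f with rfl | hf0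
      · rw [pow_zero] at hf; omega
      · have := Nat.le_of_dvd hf0 h4
        omega
    · exact h4
  rcases psl_prime ht he hdc with h1 | ⟨i, hi1, hi2, h1⟩
  · have := Nat.le_of_dvd (by omega) h1
    omega
  · rcases Nat.lt_or_ge i (k + 2) with hi | hi
    · exfalso
      apply hsmall
      have h2 : u ^ i ≤ Y := by rw [hY]; exact Nat.pow_le_pow_right (by omega) (by omega)
      have h3 : 1 < u ^ i := Nat.one_lt_pow (by omega) (by omega)
      have := Nat.le_of_dvd (by omega) h1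
      omega
    · rcases hi.eq_or_lt with rfl | hi
      · right
        rw [hX]; exact h1
      · left
        have hi3 : i = k + 3 := by omega
        subst hi3
        rw [← h3]; exact h1

/-- `u ^ i - (-1) ^ i` -/
def um (u i : ℕ) : ℕ := if i % 2 = 1 then u ^ i + 1 else u ^ i - 1

theorem um_pos (hu : 2 ≤ u) {i : ℕ} (hi : 1 ≤ i) : 0 < um u i := by
  unfold um
  have : 1 < u ^ i := Nat.one_lt_pow (by omega) (by omega)
  split_ifs <;> omega

theorem um_le (u i : ℕ) : um u i ≤ u ^ i + 1 := by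
  unfold um
  split_ifs <;> omega

theorem few_psu_aux (hm : 3 ≤ m) (hu2 : 2 ≤ u) (hf : u = p ^ f) (he : den (.psu m u) * c = num (.psu m u))
    (hl : 37 ≤ (u - 1) * u ^ (m - 2)) :
    (∀ i, 1 ≤ i → i ≤ m → um u i < ((u - 1) * u ^ (m - 2) - 11) ^ 2) ∧
    ∀ t : ℕ, t.Prime → (u - 1) * u ^ (m - 2) - 11 ≤ t → t ∣ 6 * f * c →
      t ∣ um u m ∨ t ∣ um u (m - 1) ∨ t ∣ um u (m - 2) := by
  obtain ⟨k, rfl⟩ : ∃ k, m = k + 3 := ⟨m - 3, by omega⟩
  obtain ⟨v, rfl⟩ : ∃ v, u = v + 1 := ⟨u - 1, by omega⟩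
  rw [Nat.add_sub_cancel, show k + 3 - 2 = k + 1 by omega] at hl ⊢
  rw [show k + 3 - 1 = k + 2 by omega]
  obtain ⟨Y, hY⟩ : ∃ Y, Y = (v + 1) ^ (k + 1) := ⟨_, rfl⟩
  rw [← hY] at hl ⊢
  obtain ⟨L, hL⟩ : ∃ L, L = v * Y := ⟨_, rfl⟩
  rw [← hL] at hl ⊢
  have hYv : v + 1 ≤ Y := by rw [hY]; exact Nat.le_self_pow (by omega) _
  have h3 : (v + 1) ^ (k + 3) = (v + 1) ^ 2 * Y := by rw [hY, ← pow_add]; congr 1; omega
  have hlt : (v + 1) ^ 2 * Y + 1 < (L - 11) ^ 2 := by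
    obtain ⟨Z, hZ⟩ : ∃ Z, L = Z + 11 := ⟨L - 11, by omega⟩
    rw [hZ, Nat.add_sub_cancel]
    have hZ26 : 26 ≤ Z := by omega
    -- `L ≤ 37 / 26 Z`
    have h4 : 26 * L ≤ 37 * Z := by omega
    rcases (show v = 1 ∨ v = 2 ∨ 3 ≤ v by omega) with rfl | rfl | hv
    · rw [one_mul] at hL
      norm_num
      nlinarith
    · norm_num
      nlinarith
    · -- `(v + 1) ^ 2 ≤ 2 v ^ 2`
      have h5 : (v + 1) ^ 2 ≤ 2 * (v * v) := by nlinarith
      have h6 : (v + 1) ^ 2 * Y ≤ 2 * (v * v) * Y := Nat.mul_le_mul_right _ h5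
      have h7 : 2 * (v * v) * Y = 2 * v * L := by rw [hL]; ring
      -- `v ≤ L / Y`, `Y ≥ v + 1`
      have h8 : v * (v + 1) ≤ L := by rw [hL]; exact Nat.mul_le_mul_left _ hYv
      have h9 : 4 * v ≤ Z := by
        by_contra h9
        nlinarith
      nlinarith
  refine ⟨fun i hi1 hi => ?_, fun t ht htL hd => ?_⟩
  · have h4 : (v + 1) ^ i ≤ (v + 1) ^ (k + 3) := Nat.pow_le_pow_right (by omega) hi
    have := um_le (v + 1) i
    omega
  · have hfu := exp_lt_fld hf hu2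
    have hsm : v + 2 < t := by
      rcases (show v = 1 ∨ 2 ≤ v by omega) with rfl | hv
      · omega
      · have : 2 * Y ≤ v * Y := Nat.mul_le_mul_right _ hv
        omega
    have hdc : t ∣ c := by
      rw [mul_assoc, ht.dvd_mul, ht.dvd_mul] at hd
      rcases hd with h4 | h4 | h4
      · exact absurd h4 (not_dvd_six ht (by omega))
      · exfalso
        rcases Nat.eq_zero_or_pos f with rfl | hf0
        · rw [pow_zero] at hf; omega
        · have := Nat.le_of_dvd hf0 h4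
          omega
      · exact h4
    rcases psu_prime ht he hdc with h1 | ⟨i, hi1, hi2, h1⟩
    · have := Nat.le_of_dvd (by omega) h1
      omega
    · have h2 : t ∣ um (v + 1) i := by
        unfold um
        rcases h1 with ⟨hi, h1⟩ | ⟨hi, h1⟩
        · rwa [if_pos hi]
        · rwa [if_neg (by omega)]
      rcases (show i = k + 3 ∨ i = k + 2 ∨ i = k + 1 ∨ i ≤ k by omega) with rfl | rfl | rfl | hi
      · exact Or.inl h2
      · exact Or.inr (Or.inl h2)
      · exact Or.inr (Or.inr h2)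
      · exfalso
        have h4 := Nat.le_of_dvd (um_pos hu2 hi1) h2
        have h5 := um_le (v + 1) i
        have h6 : (v + 1) ^ i ≤ (v + 1) ^ k := Nat.pow_le_pow_right (by omega) hi
        have h7 : Y = (v + 1) ^ k * (v + 1) := by rw [hY, pow_succ]
        rcases (show v = 1 ∨ 2 ≤ v by omega) with rfl | hv
        · omega
        · have h8 : 2 * Y ≤ v * Y := Nat.mul_le_mul_right _ hv
          have h9 : (v + 1) ^ k ≤ Y := by rw [h7]; exact Nat.le_mul_of_pos_right _ (by omega)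
          omega

open Cfsg.Agent.H278.El.CrossNum (Few)

/-- **`L_m(u)`, `m ≥ 3`.** -/
theorem few_psl (hm : 3 ≤ m) (hg : Cond (.psl m u)) (he : den (.psl m u) * c = num (.psl m u)) (_hp : p.Prime)
    (hf : fld (.psl m u) = p ^ f) (h37 : 37 ≤ lsb (.psl m u)) : Few (lsb (.psl m u)) (6 * f * c) := by
  have hl : lsb (.psl m u) = u ^ (m - 1) - 1 := by
    change (if m = 2 then (u - 1) / 2 else u ^ (m - 1) - 1) = _
    rw [if_neg (by omega)]
  rw [hl] at h37 ⊢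
  obtain ⟨h1, h2, h3⟩ := few_psl_aux hm hg.2.2.two_le hf he h37
  refine ⟨[u ^ m - 1, u ^ (m - 1) - 1], by simp, ?_, fun t ht htL hd => ?_⟩
  · intro x hx
    simp only [List.mem_cons, List.not_mem_nil, or_false] at hx
    rcases hx with rfl | rfl
    · exact h1
    · exact h2
  · rcases h3 t ht htL hd with h4 | h4
    · exact ⟨_, by simp, h4⟩
    · exact ⟨_, by simp, h4⟩

/-- **`U_m(u)`.** -/
theorem few_psu (hg : Cond (.psu m u)) (he : den (.psu m u) * c = num (.psu m u)) (_hp : p.Prime)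
    (hf : fld (.psu m u) = p ^ f) (h37 : 37 ≤ lsb (.psu m u)) : Few (lsb (.psu m u)) (6 * f * c) := by
  have hl : lsb (.psu m u) = (u - 1) * u ^ (m - 2) := rfl
  rw [hl] at h37 ⊢
  have hm : 3 ≤ m := hg.1
  have hu2 : 2 ≤ u := hg.2.2.two_le
  obtain ⟨h1, h3⟩ := few_psu_aux hm hu2 hf he h37
  refine ⟨[um u m, um u (m - 1), um u (m - 2)], by simp, ?_, fun t ht htL hd => ?_⟩
  · intro x hx
    simp only [List.mem_cons, List.not_mem_nil, or_false] at hx
    rcases hx with rfl | rfl | rfl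
    · exact ⟨um_pos hu2 (by omega), h1 _ (by omega) (by omega)⟩
    · exact ⟨um_pos hu2 (by omega), h1 _ (by omega) (by omega)⟩
    · exact ⟨um_pos hu2 (by omega), h1 _ (by omega) (by omega)⟩
  · rcases h3 t ht htL hd with h4 | h4 | h4
    · exact ⟨_, by simp, h4⟩
    · exact ⟨_, by simp, h4⟩
    · exact ⟨_, by simp, h4⟩

end Cfsg.Agent.H983.X2b
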