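import Cfsg.Agent.H436.Names

/-!
# TEAM ELUSIVE, EL-S-CROSS, piece X2b (helper983)

Large prime divisors of the orders of `L_n(u)`, `U_n(u)`, `n ≥ 3`: a prime `t ≥ lsb - 9` dividing the order is
`(u ^ n - 1) / (u - 1)` or `2 ^ (n - 1) - 1` (`u = 2`), resp. `(u ^ n + 1) / (u + 1)`.
-/

set_option autoImplicit false

namespace Cfsg.Agent.H983.X2b

open Cfsg.Agent.OrdDiv Cfsg.Agent.H436

variable {u n c t N : ℕ}

theorem exists_of_dvd_list {ι : Type*} (f : ι → ℕ) (l : List ι) (ht : t.Prime) (h : t ∣ (l.map f).prod) :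
    ∃ i ∈ l, t ∣ f i := by
  induction l with
  | nil =>
    rw [List.map_nil, List.prod_nil] at h
    exact absurd (Nat.dvd_one.1 h) ht.one_lt.ne'
  | cons a l ih =>
    rw [List.map_cons, List.prod_cons] at h
    rcases ht.dvd_mul.1 h with h | h
    · exact ⟨a, List.mem_cons_self, h⟩
    · obtain ⟨i, hi, hd⟩ := ih h
      exact ⟨i, List.mem_cons_of_mem _ hi, hd⟩

theorem psl_prime (ht : t.Prime) (h : den (.psl n u) * c = num (.psl n u)) (hd : t ∣ c) :
    t ∣ u ∨ ∃ i, 1 ≤ i ∧ i ≤ n ∧ t ∣ u ^ i - 1 := by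
  have h1 : t ∣ glN n u := by
    change t ∣ num (.psl n u)
    rw [← h]
    exact hd.mul_left _
  obtain ⟨i, hi, h2⟩ := exists_of_dvd_list _ _ ht h1
  rw [List.mem_range] at hi
  have h3 : u ^ n - u ^ i = u ^ i * (u ^ (n - i) - 1) := by
    rw [Nat.mul_sub, ← pow_add, mul_one, Nat.add_sub_cancel' hi.le]
  rw [h3] at h2
  rcases ht.dvd_mul.1 h2 with h4 | h4
  · exact Or.inl (ht.dvd_of_dvd_pow h4)
  · exact Or.inr ⟨n - i, by omega, by omega, h4⟩

theorem psu_prime (ht : t.Prime) (h : den (.psu n u) * c = num (.psu n u)) (hd : t ∣ c) :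
    t ∣ u ∨ ∃ i, 1 ≤ i ∧ i ≤ n ∧ ((i % 2 = 1 ∧ t ∣ u ^ i + 1) ∨ (i % 2 = 0 ∧ t ∣ u ^ i - 1)) := by
  have h1 : t ∣ u ^ (n * (n - 1) / 2) * prU u n := by
    change t ∣ num (.psu n u)
    rw [← h]
    exact hd.mul_left _
  rcases ht.dvd_mul.1 h1 with h4 | h4
  · exact Or.inl (ht.dvd_of_dvd_pow h4)
  · obtain ⟨i, hi, h2⟩ := exists_of_dvd_list _ _ ht h4
    rw [List.mem_range] at hi
    refine Or.inr ⟨i + 1, by omega, by omega, ?_⟩
    by_cases hi2 : i % 2 = 0
    · rw [if_pos (by rw [Nat.beq_eq]; exact hi2)] at h2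
      exact Or.inl ⟨by omega, h2⟩
    · rw [if_neg (by rw [Nat.beq_eq]; exact hi2)] at h2
      exact Or.inr ⟨by omega, h2⟩

/-- **`L_n(u)`.** -/
theorem psl_few (hn : 3 ≤ n) (hu : 2 ≤ u) (h : den (.psl n u) * c = num (.psl n u)) (h36 : 36 ≤ u ^ (n - 1))
    (hN : u ^ (n - 1) - 1 ≤ N) (ht : t.Prime) (htN : N - 9 ≤ t) (hd : t ∣ c) :
    t * (u - 1) = u ^ n - 1 ∨ (u = 2 ∧ t = 2 ^ (n - 1) - 1) := by
  obtain ⟨k, rfl⟩ : ∃ k, n = k + 3 := ⟨n - 3, by omega⟩
  obtain ⟨X, hX⟩ : ∃ X, X = u ^ (k + 2) := ⟨_, rfl⟩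
  have h36' : 36 ≤ X := by rw [hX]; exact h36
  have htX : X ≤ t + 10 := by
    have : X - 1 ≤ N := by rw [hX]; exact hN
    omega
  have hXu : X = u ^ (k + 1) * u := by rw [hX, pow_succ]
  have hY1 : u ≤ u ^ (k + 1) := Nat.le_self_pow (by omega) u
  obtain ⟨Y, hY⟩ : ∃ Y, Y = u ^ (k + 1) := ⟨_, rfl⟩
  rw [← hY] at hXu hY1
  have hYX : 2 * Y ≤ X := by rw [hXu]; nlinarith
  have hsmall : ¬ t ≤ Y := by omega
  rcases psl_prime ht h hd with h1 | ⟨i, hi1, hi2, h1⟩
  · exact absurd ((Nat.le_of_dvd (by omega) h1).trans hY1) hsmall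
  · rcases Nat.lt_or_ge i (k + 2) with hi | hi
    · exfalso
      apply hsmall
      have h2 : u ^ i ≤ Y := by rw [hY]; exact Nat.pow_le_pow_right (by omega) (by omega)
      have h3 : 1 < u ^ i := Nat.one_lt_pow (by omega) (by omega)
      have := Nat.le_of_dvd (by omega) h1
      omega
    · rcases hi.eq_or_lt with rfl | hi
      · -- `t ∣ u ^ (n - 1) - 1`
        rw [← hX] at h1
        obtain ⟨m, hm⟩ := h1
        have hm0 : m ≠ 0 := by
          rintro rfl
          omega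
        by_cases hm1 : m = 1
        · right
          subst hm1
          rw [mul_one] at hm
          have h2 : u - 1 ∣ X - 1 := by
            rw [hX]
            exact Nat.sub_one_dvd_pow_sub_one _ _
          rw [hm] at h2
          rcases (Nat.dvd_prime ht).1 h2 with h3 | h3
          · have hu2 : u = 2 := by omega
            subst hu2
            exact ⟨rfl, by rw [← hm, hX]; rfl⟩
          · omega
        · exfalso
          have h2 : t * 2 ≤ X - 1 := by rw [hm]; exact Nat.mul_le_mul_left _ (by omega)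
          omega
      · left
        have hi3 : i = k + 3 := by omega
        subst hi3
        obtain ⟨P, hP⟩ : u - 1 ∣ u ^ (k + 3) - 1 := Nat.sub_one_dvd_pow_sub_one _ _
        have hP1 : u ^ (k + 3) = X * u := by rw [hX]; exact pow_succ _ _
        have htP : t ∣ P := by
          rw [hP] at h1
          rcases ht.dvd_mul.1 h1 with h2 | h2
          · exfalso
            apply hsmall
            have := Nat.le_of_dvd (by omega) h2
            omega
          · exact h2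
        obtain ⟨m, rfl⟩ := htP
        have hm0 : m ≠ 0 := by
          rintro rfl
          rw [mul_zero, mul_zero] at hP
          have : 1 < u ^ (k + 3) := Nat.one_lt_pow (by omega) (by omega)
          omega
        by_cases hm1 : m = 1
        · subst hm1
          rw [hP]; ring
        · exfalso
          obtain ⟨v, rfl⟩ : ∃ v, u = v + 1 := ⟨u - 1, by omega⟩
          rw [Nat.add_sub_cancel, hP1] at hP
          have hXX : 1 ≤ X * (v + 1) := by nlinarith
          have hP2 : v * (t * m) + 1 = X * (v + 1) := by omega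
          rcases (show v = 1 ∨ v = 2 ∨ 3 ≤ v by omega) with rfl | rfl | hv
          · have h3 : 3 ≤ m := by
              by_contra h3
              have : m = 2 := by omega
              subst this
              omega
            have := Nat.mul_le_mul_left t h3
            omega
          · have h3 : t * 2 ≤ t * m := Nat.mul_le_mul_left t (by omega)
            have h4 : X < 40 := by omega
            have h5 : k + 2 < 4 := by
              by_contra h5
              have h6 : 3 ^ 4 ≤ 3 ^ (k + 2) := Nat.pow_le_pow_right (by norm_num) (by omega)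
              have h7 : X = 3 ^ (k + 2) := hX
              omega
            have h6 : 3 ^ (k + 2) ≤ 3 ^ 3 := Nat.pow_le_pow_right (by norm_num) (by omega)
            have h7 : X = 3 ^ (k + 2) := hX
            omega
          · have h3 : t * 2 ≤ t * m := Nat.mul_le_mul_left t (by omega)
            have h4 : v * (t * 2) ≤ v * (t * m) := Nat.mul_le_mul_left v h3
            have h5 : v * (X * 2) ≤ v * (t * 2 + 20) := Nat.mul_le_mul_left v (by omega)
            nlinarith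

/-- **`U_n(u)`.** -/
theorem psu_few (hn : 3 ≤ n) (hu : 2 ≤ u) (h : den (.psu n u) * c = num (.psu n u))
    (h35 : 35 ≤ (u - 1) * u ^ (n - 2)) (hN : (u - 1) * u ^ (n - 2) ≤ N) (ht : t.Prime) (htN : N - 9 ≤ t)
    (hd : t ∣ c) : t * (u + 1) = u ^ n + 1 := by
  obtain ⟨k, rfl⟩ : ∃ k, n = k + 3 := ⟨n - 3, by omega⟩
  obtain ⟨v, rfl⟩ : ∃ v, u = v + 1 := ⟨u - 1, by omega⟩
  rw [Nat.add_sub_cancel, show k + 3 - 2 = k + 1 by omega] at h35 hN
  obtain ⟨Y, hY⟩ : ∃ Y, Y = (v + 1) ^ (k + 1) := ⟨_, rfl⟩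
  rw [← hY] at h35 hN
  obtain ⟨L, hL⟩ : ∃ L, L = v * Y := ⟨_, rfl⟩
  rw [← hL] at h35 hN
  have htL : L ≤ t + 9 := by omega
  have hYv : v + 1 ≤ Y := by rw [hY]; exact Nat.le_self_pow (by omega) _
  -- `t` is larger than the powers
  have hbig : 2 ≤ v → Y + 1 < t := by
    intro hv
    have h2 : 2 * Y ≤ v * Y := Nat.mul_le_mul_right _ hv
    omega
  have hv1 : v = 1 → L = Y := by rintro rfl; rw [hL, one_mul]
  have hYt : v + 2 < t := by
    rcases (show v = 1 ∨ 2 ≤ v by omega) with h1 | h1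
    · omega
    · have := hbig h1
      omega
  rcases psu_prime ht h hd with h1 | ⟨i, hi1, hi2, h1⟩
  · have := Nat.le_of_dvd (by omega) h1
    omega
  rcases h1 with ⟨hi, h1⟩ | ⟨hi, h1⟩
  · -- `i` odd
    obtain ⟨P, hP⟩ : v + 1 + 1 ∣ (v + 1) ^ i + 1 := by
      have h3 := (Nat.odd_iff.2 hi).nat_add_dvd_pow_add_pow (v + 1) 1
      rwa [one_pow] at h3
    have htP : t ∣ P := by
      rw [hP] at h1
      rcases ht.dvd_mul.1 h1 with h2 | h2
      · have := Nat.le_of_dvd (by omega) h2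
        omega
      · exact h2
    have hP0 : 0 < P := by
      rcases Nat.eq_zero_or_pos P with h2 | h2
      · rw [h2, mul_zero] at hP
        omega
      · exact h2
    have htle := Nat.le_of_dvd hP0 htP
    rcases hi2.eq_or_lt with rfl | hi3
    · obtain ⟨m, rfl⟩ := htP
      by_cases hm1 : m = 1
      · subst hm1
        rw [hP]; ring
      · exfalso
        have hm2 : 2 ≤ m := by
          by_contra hm2
          have : m = 0 := by omega
          subst this
          omega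
        have h3 : (v + 1) ^ (k + 3) = (v + 1) ^ 2 * Y := by rw [hY, ← pow_add]; congr 1; omega
        have h4 : t * 2 ≤ t * m := Nat.mul_le_mul_left t hm2
        have h5 : (v + 2) * (t * 2) ≤ (v + 1) ^ 2 * Y + 1 := by
          rw [← h3, hP]
          exact Nat.mul_le_mul_left _ h4
        rcases (show v = 0 ∨ v = 1 ∨ 2 ≤ v by omega) with rfl | rfl | hv
        · omega
        · have h6 : (1 + 1) ^ 2 * Y = 4 * Y := by norm_num
          omega
        · -- `2 (v + 2) (v Y - 9) ≤ (v + 1) ^ 2 Y + 1`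
          have h6 : (v + 2) * (v * Y * 2) ≤ (v + 2) * (t * 2 + 18) := Nat.mul_le_mul_left _ (by omega)
          have h7 : v * 35 ≤ v * (v * Y) := Nat.mul_le_mul_left _ (by omega)
          nlinarith
    · exfalso
      -- `i ≤ n - 1`
      have h3 : (v + 1) ^ i ≤ (v + 1) ^ (k + 2) := Nat.pow_le_pow_right (by omega) (by omega)
      have h4 : (v + 1) ^ (k + 2) = Y * (v + 1) := by rw [hY, ← pow_succ]
      rcases (show v = 0 ∨ v = 1 ∨ 2 ≤ v by omega) with rfl | rfl | hv
      · omega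
      · have h6 : 3 * t ≤ (1 + 1 + 1) * P := Nat.mul_le_mul_left 3 htle
        have := hv1 rfl
        omega
      · have h5 := hbig hv
        have h6 : (v + 1 + 1) * P ≤ Y * (v + 1) + 1 := by omega
        have h7 : (v + 1 + 1) * (Y + 2) ≤ (v + 1 + 1) * P := Nat.mul_le_mul_left _ (by omega)
        nlinarith
  · -- `i` even
    exfalso
    obtain ⟨j, rfl⟩ : ∃ j, i = 2 * j := ⟨i / 2, by omega⟩
    have h2 : (v + 1) ^ (2 * j) - 1 = ((v + 1) ^ j + 1) * ((v + 1) ^ j - 1) := by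
      rw [mul_comm 2 j, pow_mul]
      have := Nat.sq_sub_sq ((v + 1) ^ j) 1
      rwa [one_pow] at this
    have h3 : 1 < (v + 1) ^ j := Nat.one_lt_pow (by omega) (by omega)
    have h4 : t ≤ (v + 1) ^ j + 1 := by
      rw [h2] at h1
      rcases ht.dvd_mul.1 h1 with h5 | h5
      · exact Nat.le_of_dvd (by omega) h5
      · have := Nat.le_of_dvd (by omega) h5
        omega
    have h5 : (v + 1) ^ j ≤ Y := by
      rw [hY]
      exact Nat.pow_le_pow_right (by omega) (by omega)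
    rcases (show v = 0 ∨ v = 1 ∨ 2 ≤ v by omega) with rfl | rfl | hv
    · omega
    · have h6 := hv1 rfl
      have h7 : 6 ≤ k + 1 := by
        by_contra h7
        have h8 : (1 + 1) ^ (k + 1) ≤ (1 + 1) ^ 5 := Nat.pow_le_pow_right (by norm_num) (by omega)
        rw [← hY] at h8
        omega
      have h8 : (1 + 1) ^ j ≤ (1 + 1) ^ (k - 1) := Nat.pow_le_pow_right (by norm_num) (by omega)
      have h9 : Y = 4 * (1 + 1) ^ (k - 1) := by
        rw [hY, show k + 1 = 2 + (k - 1) by omega, pow_add]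
        norm_num
      omega
    · have := hbig hv
      omega

/-- three primes `≥ N - 9` dividing the order of `L_n(u)` or `U_n(u)` are not distinct -/
theorem psl_three (hn : 3 ≤ n) (hu : 2 ≤ u) (h : den (.psl n u) * c = num (.psl n u)) (h36 : 36 ≤ u ^ (n - 1))
    (hN : u ^ (n - 1) - 1 ≤ N) {t₁ t₂ t₃ : ℕ} (ht₁ : t₁.Prime) (ht₂ : t₂.Prime) (ht₃ : t₃.Prime)
    (h1 : N - 9 ≤ t₁) (h2 : N - 9 ≤ t₂) (h3 : N - 9 ≤ t₃) (hd₁ : t₁ ∣ c) (hd₂ : t₂ ∣ c) (hd₃ : t₃ ∣ c) :
    t₁ = t₂ ∨ t₁ = t₃ ∨ t₂ = t₃ := by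
  have key : ∀ a b : ℕ, a * (u - 1) = u ^ n - 1 → b * (u - 1) = u ^ n - 1 → a = b := fun a b ha hb =>
    Nat.eq_of_mul_eq_mul_right (show 0 < u - 1 by omega) (ha.trans hb.symm)
  rcases psl_few hn hu h h36 hN ht₁ h1 hd₁ with e1 | ⟨-, e1⟩ <;>
    rcases psl_few hn hu h h36 hN ht₂ h2 hd₂ with e2 | ⟨-, e2⟩ <;>
    rcases psl_few hn hu h h36 hN ht₃ h3 hd₃ with e3 | ⟨-, e3⟩
  · exact Or.inl (key _ _ e1 e2)
  · exact Or.inl (key _ _ e1 e2)
  · exact Or.inr (Or.inl (key _ _ e1 e3))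
  · exact Or.inr (Or.inr (e2.trans e3.symm))
  · exact Or.inr (Or.inr (key _ _ e2 e3))
  · exact Or.inr (Or.inl (e1.trans e3.symm))
  · exact Or.inl (e1.trans e2.symm)
  · exact Or.inl (e1.trans e2.symm)

theorem psu_two (hn : 3 ≤ n) (hu : 2 ≤ u) (h : den (.psu n u) * c = num (.psu n u))
    (h35 : 35 ≤ (u - 1) * u ^ (n - 2)) (hN : (u - 1) * u ^ (n - 2) ≤ N) {t₁ t₂ : ℕ} (ht₁ : t₁.Prime) (ht₂ : t₂.Prime)
    (h1 : N - 9 ≤ t₁) (h2 : N - 9 ≤ t₂) (hd₁ : t₁ ∣ c) (hd₂ : t₂ ∣ c) : t₁ = t₂ :=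
  Nat.eq_of_mul_eq_mul_right (show 0 < u + 1 by omega)
    ((psu_few hn hu h h35 hN ht₁ h1 hd₁).trans (psu_few hn hu h h35 hN ht₂ h2 hd₂).symm)

end Cfsg.Agent.H983.X2b
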